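import Mathlib
import Cfsg.Agent.GH.LowRankD4
import Cfsg.Agent.ClassificationK.GTwoSylow
import Cfsg.Agent.ChevalleyStructure.FixedCard
import Cfsg.Agent.S1067
import Cfsg.Agent.ChevalleyStructure.LaurentFast
import Cfsg.Agent.Prune
set_option linter.all false
open scoped Cfsg.Agent.FastGrp

/-!
# The Sylow 2-subgroups of `³D₄(q)`, `q` odd, are of type `G₂(q)`

`exists_equiv` : a Sylow 2-subgroup of `³D₄(q)` is isomorphic to the model group `T (2 * 2 ^ k)`, where
`q ^ 2 - 1 = 4 * 2 ^ k * m`, `m` odd.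
`sylow_equiv` : it is isomorphic to a Sylow 2-subgroup of `G₂(q)`.
-/

set_option autoImplicit false
set_option linter.dupNamespace false
set_option linter.style.haveILetI false

namespace Cfsg.Agent.H285.D4Sylow

open Cfsg Cfsg.Lie
open Cfsg.Agent.ChevalleyStructure.LaurentWord
open Cfsg.Agent.ChevalleyStructure.LaurentNH
open Cfsg.Agent.ChevalleyStructure.SL2Rep
open Cfsg.Agent.ChevalleyStructure.SL2Hom
open Cfsg.Agent.ChevalleyStructure.D4Cols (colsOK xU coe_xU xU_inv)
open Cfsg.Agent.ChevalleyStructure.D4Fixed (exists_frob x14_mem x9_mem)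
open Cfsg.Agent.ClassificationK.GTwoChev (wsl wsl_sq wsl_up wsl_lo evM_ninv delta_up delta_lo)
open Cfsg.Agent.ClassificationK.GTwoSL (delta HasElements exists_elements)
open Cfsg.Agent.GH.LowRankD4

/-! ### the kernel checks -/

/-- the word of the torus element `h(t)`: the three outer nodes and the central node -/
def hw : List (ℕ × Mono) :=
  [(18, 1, 1, 0), (13, 1, 1, 0), (12, 1, 1, 0), (5, -1, -1, 0), (10, -1, -1, 0), (11, -1, -1, 0),
   (18, 1, 1, 0), (13, 1, 1, 0), (12, 1, 1, 0),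
   (18, -1, 0, 0), (13, -1, 0, 0), (12, -1, 0, 0), (5, 1, 0, 0), (10, 1, 0, 0), (11, 1, 0, 0),
   (18, -1, 0, 0), (13, -1, 0, 0), (12, -1, 0, 0),
   (14, 1, 1, 0), (9, -1, -1, 0), (14, 1, 1, 0), (14, -1, 0, 0), (9, 1, 0, 0), (14, -1, 0, 0)]

/-- the roots and their weights -/
def wts : List (ℕ × ℤ) := [(18, 1), (13, 1), (12, 1), (5, -1), (10, -1), (11, -1), (23, 1), (0, -1)]

theorem check_hconj : (wts.all fun p =>
      checkEq 28 24 (col chevD4) (hw ++ [(p.1, 1, 0, 1)]) ([(p.1, 1, p.2, 1)] ++ hw)) = true := by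
  delta checkEq
  rewrite [Cfsg.Agent.ChevalleyStructure.LaurentFast.applyW_eq]
  decide +kernel

theorem check_sq : checkEq 28 24 (col chevD4) (hw ++ w23 ++ wo ++ hw ++ w23 ++ wo) [] = true := by
  delta checkEq
  rewrite [Cfsg.Agent.ChevalleyStructure.LaurentFast.applyW_eq]
  decide +kernel

theorem check_z : checkEq 28 24 (col chevD4) (w23 ++ w23) (wo ++ wo) = true := by
  delta checkEq
  rewrite [Cfsg.Agent.ChevalleyStructure.LaurentFast.applyW_eq]
  decide +kernel

section Field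

variable {F P : Type*} [Field F] [Field P] (c : P →+* F)

/-- The matrix of an element. -/
def mat (g : GL chevD4.Idx F) : Matrix chevD4.Idx chevD4.Idx F := (g : Matrix _ _ F)

theorem mat_injective : Function.Injective (mat (F := F)) := Units.val_injective

theorem mat_mul (g h : GL chevD4.Idx F) : mat (g * h) = mat g * mat h := rfl

/-- The homomorphism of the central node. -/
noncomputable def ce : Matrix.SpecialLinearGroup (Fin 2) P →* GL chevD4.Idx F := ou c 14 (by decide)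

theorem ce_up (t : P) : ce c (up t) = xU 14 (c t) := ou_up c 14 (by decide) t
theorem ce_lo (t : P) : ce c (lo t) = xU 9 (c t) := ou_lo c 14 9 (by decide) (by decide +kernel) t

theorem mat_w23 (t u : F) : mat (hi c (wsl P)) = chevD4.wordMat F (evW t u w23) := by
  simp only [evW, w23, List.map_cons, List.map_nil, ChevalleyDatum.wordMat, List.prod_cons, List.prod_nil,
    mul_one, evM_neg_one, evM_one]
  rw [wsl, map_mul, map_mul, hi_up, hi_lo, map_neg, map_one, mat_mul, mat_mul, mul_assoc]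
  rfl

theorem mat_wo (t u : F) : mat (out c (wsl P)) = chevD4.wordMat F (evW t u wo) := by
  simp only [evW, wo, List.map_cons, List.map_nil, ChevalleyDatum.wordMat, List.prod_cons, List.prod_nil,
    mul_one, evM_neg_one, evM_one]
  rw [wsl, map_mul, map_mul, out_up, out_lo, map_neg, map_one]
  simp only [mat_mul, mul_assoc]
  rfl

theorem hi_eq_out : hi c (-1) = out c (-1) := by
  rw [← wsl_sq, map_mul, map_mul]
  apply mat_injective
  have h1 := wordMat_eq_of_checkEq chevD4 colsOK (one_ne_zero (α := F)) (one_ne_zero (α := F)) check_z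
  simp only [evW_append, wordMat_append, ← mat_w23 c, ← mat_wo c, ← mat_mul] at h1
  exact h1

/-- the torus element -/
noncomputable def H (t : P) : GL chevD4.Idx F :=
  out c (up t) * out c (lo (-t⁻¹)) * out c (up t) * out c (up (-1)) * out c (lo 1) * out c (up (-1)) *
  (ce c (up t) * ce c (lo (-t⁻¹)) * ce c (up t) * ce c (up (-1)) * ce c (lo 1) * ce c (up (-1)))

theorem mat_H (t : P) (u : F) : mat (H c t) = chevD4.wordMat F (evW (c t) u hw) := by
  simp only [evW, hw, List.map_cons, List.map_nil, ChevalleyDatum.wordMat, List.prod_cons, List.prod_nil,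
    mul_one, evM_ninv, evM_t, evM_neg_one, evM_one]
  simp only [H, out_up, out_lo, ce_up, ce_lo, map_neg, map_one, map_inv₀, mat_mul, mul_assoc]
  rfl

theorem H_conj_aux {s : ℕ} {k : ℤ} (h : (s, k) ∈ wts) {t : P} (ht : t ≠ 0) (u : F) :
    H c t * xU s u = xU s ((c t) ^ k * u) * H c t := by
  have ht' : c t ≠ 0 := (map_ne_zero c).2 ht
  have h0 : (xU s 0 : GL chevD4.Idx F) = 1 := Units.ext (x_zero _ s)
  by_cases hu : u = 0
  · subst hu
    rw [mul_zero, h0, one_mul, mul_one]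
  · apply mat_injective
    have h1 := wordMat_eq_of_checkEq chevD4 colsOK ht' hu (List.all_eq_true.1 check_hconj _ h)
    rw [evW_append, evW_append, wordMat_append, wordMat_append, ← mat_H c] at h1
    simp only [evW, List.map_cons, List.map_nil, ChevalleyDatum.wordMat, List.prod_cons, List.prod_nil,
      mul_one, evM_u] at h1
    rw [mat_mul, mat_mul]
    refine Eq.trans h1 ?_
    congr 1
    change chevD4.x F s _ = chevD4.x F s _
    congr 1
    simp [evM]

theorem H_hi_up (ε : Pˣ) (t : P) : H c (ε : P) * hi c (up t) = hi c (up (ε * t)) * H c (ε : P) := by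
  rw [hi_up, hi_up, H_conj_aux c (s := 23) (k := 1) (by decide) ε.ne_zero, zpow_one, map_mul]

theorem H_hi_lo (ε : Pˣ) (t : P) :
    H c (ε : P) * hi c (lo t) = hi c (lo ((ε⁻¹ : Pˣ) * t)) * H c (ε : P) := by
  rw [hi_lo, hi_lo, H_conj_aux c (s := 0) (k := -1) (by decide) ε.ne_zero, zpow_neg_one, map_mul,
    Units.val_inv_eq_inv_val, map_inv₀]

theorem H_out_up (ε : Pˣ) (t : P) : H c (ε : P) * out c (up t) = out c (up (ε * t)) * H c (ε : P) := by
  rw [out_up, out_up, ← mul_assoc, ← mul_assoc, H_conj_aux c (s := 18) (k := 1) (by decide) ε.ne_zero,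
    mul_assoc (xU 18 _), H_conj_aux c (s := 13) (k := 1) (by decide) ε.ne_zero, ← mul_assoc,
    mul_assoc _ (H c (ε : P)), H_conj_aux c (s := 12) (k := 1) (by decide) ε.ne_zero]
  simp only [zpow_one, map_mul, mul_assoc]

theorem H_out_lo (ε : Pˣ) (t : P) :
    H c (ε : P) * out c (lo t) = out c (lo ((ε⁻¹ : Pˣ) * t)) * H c (ε : P) := by
  rw [out_lo, out_lo, ← mul_assoc, ← mul_assoc, H_conj_aux c (s := 5) (k := -1) (by decide) ε.ne_zero,
    mul_assoc (xU 5 _), H_conj_aux c (s := 10) (k := -1) (by decide) ε.ne_zero, ← mul_assoc,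
    mul_assoc _ (H c (ε : P)), H_conj_aux c (s := 11) (k := -1) (by decide) ε.ne_zero]
  simp only [zpow_neg_one, map_mul, Units.val_inv_eq_inv_val, map_inv₀, mul_assoc]

/-- the outer involution -/
noncomputable def dd (ε : Pˣ) : GL chevD4.Idx F := H c (ε : P) * hi c (wsl P) * out c (wsl P)

theorem dd_sq (ε : Pˣ) : dd c ε * dd c ε = 1 := by
  apply mat_injective
  have h1 := wordMat_eq_of_checkEq chevD4 colsOK ((map_ne_zero c).2 ε.ne_zero) (one_ne_zero (α := F)) check_sq
  simp only [evW_append, wordMat_append] at h1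
  rw [← mat_H c, ← mat_w23 c, ← mat_wo c] at h1
  simp only [← mat_mul] at h1
  have h3 : chevD4.wordMat F (evW (c (ε : P)) 1 ([] : List (ℕ × Mono))) = mat 1 := by
    simp [evW, ChevalleyDatum.wordMat]
    rfl
  rw [h3] at h1
  have h5 : dd c ε * dd c ε = H c (ε : P) * hi c (wsl P) * out c (wsl P) * H c (ε : P) * hi c (wsl P) *
      out c (wsl P) := by
    simp only [dd, mul_assoc]
  rw [h5]
  exact h1

theorem dd_hi (ε : Pˣ) (g : Matrix.SpecialLinearGroup (Fin 2) P) :
    dd c ε * hi c g = hi c (delta ε g) * dd c ε := by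
  refine Subgroup.closure_induction (p := fun g _ => dd c ε * hi c g = hi c (delta ε g) * dd c ε)
    ?_ ?_ ?_ ?_ (mem_closure_SL2 g)
  · rintro _ (⟨t, rfl⟩ | ⟨t, rfl⟩)
    · rw [delta_up, dd]
      calc H c (ε : P) * hi c (wsl P) * out c (wsl P) * hi c (up t)
          = H c (ε : P) * (hi c (wsl P) * hi c (up t)) * out c (wsl P) := by
            rw [mul_assoc _ (out c (wsl P)), ← (hi_out_comm c (up t) (wsl P)).eq]
            simp only [mul_assoc]
        _ = H c (ε : P) * hi c (lo (-t)) * hi c (wsl P) * out c (wsl P) := by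
            rw [← map_mul, wsl_up, map_mul]
            simp only [mul_assoc]
        _ = _ := by
            rw [H_hi_lo]
            simp only [mul_assoc, mul_neg]
    · rw [delta_lo, dd]
      calc H c (ε : P) * hi c (wsl P) * out c (wsl P) * hi c (lo t)
          = H c (ε : P) * (hi c (wsl P) * hi c (lo t)) * out c (wsl P) := by
            rw [mul_assoc _ (out c (wsl P)), ← (hi_out_comm c (lo t) (wsl P)).eq]
            simp only [mul_assoc]
        _ = H c (ε : P) * hi c (up (-t)) * hi c (wsl P) * out c (wsl P) := by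
            rw [← map_mul, wsl_lo, map_mul]
            simp only [mul_assoc]
        _ = _ := by
            rw [H_hi_up]
            simp only [mul_assoc, mul_neg]
  · rw [map_one, map_one, map_one, mul_one, one_mul]
  · intro x y _ _ hx hy
    rw [map_mul, map_mul, map_mul, ← mul_assoc, hx, mul_assoc, hy, mul_assoc]
  · intro x _ hx
    rw [map_inv, map_inv, map_inv, mul_inv_eq_iff_eq_mul, mul_assoc, hx, inv_mul_cancel_left]

theorem dd_out (ε : Pˣ) (g : Matrix.SpecialLinearGroup (Fin 2) P) :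
    dd c ε * out c g = out c (delta ε g) * dd c ε := by
  refine Subgroup.closure_induction (p := fun g _ => dd c ε * out c g = out c (delta ε g) * dd c ε)
    ?_ ?_ ?_ ?_ (mem_closure_SL2 g)
  · rintro _ (⟨t, rfl⟩ | ⟨t, rfl⟩)
    · rw [delta_up, dd]
      calc H c (ε : P) * hi c (wsl P) * out c (wsl P) * out c (up t)
          = H c (ε : P) * (hi c (wsl P) * out c (lo (-t))) * out c (wsl P) := by
            rw [mul_assoc _ (out c (wsl P)), ← map_mul, wsl_up, map_mul]
            simp only [mul_assoc]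
        _ = _ := by
            rw [(hi_out_comm c (wsl P) (lo (-t))).eq, ← mul_assoc, H_out_lo]
            simp only [mul_assoc, mul_neg]
    · rw [delta_lo, dd]
      calc H c (ε : P) * hi c (wsl P) * out c (wsl P) * out c (lo t)
          = H c (ε : P) * (hi c (wsl P) * out c (up (-t))) * out c (wsl P) := by
            rw [mul_assoc _ (out c (wsl P)), ← map_mul, wsl_lo, map_mul]
            simp only [mul_assoc]
        _ = _ := by
            rw [(hi_out_comm c (wsl P) (up (-t))).eq, ← mul_assoc, H_out_up]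
            simp only [mul_assoc, mul_neg]
  · rw [map_one, map_one, map_one, mul_one, one_mul]
  · intro x y _ _ hx hy
    rw [map_mul, map_mul, map_mul, ← mul_assoc, hx, mul_assoc, hy, mul_assoc]
  · intro x _ hx
    rw [map_inv, map_inv, map_inv, mul_inv_eq_iff_eq_mul, mul_assoc, hx, inv_mul_cancel_left]

end Field

section Mem

variable {K : Type*} [Field K] {φ : K →+* K} {q : ℕ} {P : Type*} [Field P] (c : P →+* K)

theorem ce_mem (hφ : ∀ x, φ x = x ^ q) (hc : ∀ t, φ (c t) = c t) (g : Matrix.SpecialLinearGroup (Fin 2) P) :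
    ce c g ∈ twistedD4 K q := by
  refine Subgroup.closure_induction (p := fun g _ => ce c g ∈ twistedD4 K q) ?_ ?_ ?_ ?_ (mem_closure_SL2 g)
  · rintro _ (⟨t, rfl⟩ | ⟨t, rfl⟩)
    · rw [ce_up]
      exact x14_mem ((hφ _).symm.trans (hc t))
    · rw [ce_lo]
      exact x9_mem ((hφ _).symm.trans (hc t))
  · rw [map_one]; exact one_mem _
  · intro x y _ _ hx hy
    rw [map_mul]; exact mul_mem hx hy
  · intro x _ hx
    rw [map_inv]; exact inv_mem hx

theorem mem_six {G : Type*} [Group G] {W : Subgroup G} {x₁ x₂ x₃ x₄ x₅ x₆ : G} (h₁ : x₁ ∈ W) (h₂ : x₂ ∈ W)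
    (h₃ : x₃ ∈ W) (h₄ : x₄ ∈ W) (h₅ : x₅ ∈ W) (h₆ : x₆ ∈ W) : x₁ * x₂ * x₃ * x₄ * x₅ * x₆ ∈ W :=
  mul_mem (mul_mem (mul_mem (mul_mem (mul_mem h₁ h₂) h₃) h₄) h₅) h₆

theorem H_mem (hφ : ∀ x, φ x = x ^ q) (hc : ∀ t, φ (c t) = c t) (t : P) : H c t ∈ twistedD4 K q :=
  Subgroup.mul_mem _
    (mem_six (out_mem c hφ hc _) (out_mem c hφ hc _) (out_mem c hφ hc _) (out_mem c hφ hc _) (out_mem c hφ hc _)
      (out_mem c hφ hc _))
    (mem_six (ce_mem c hφ hc _) (ce_mem c hφ hc _) (ce_mem c hφ hc _) (ce_mem c hφ hc _) (ce_mem c hφ hc _)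
      (ce_mem c hφ hc _))

theorem dd_mem (hφ : ∀ x, φ x = x ^ q) (hc : ∀ t, φ (c t) = c t) (ε : Pˣ) : dd c ε ∈ twistedD4 K q :=
  Subgroup.mul_mem _ (Subgroup.mul_mem _ (H_mem c hφ hc _) (hi_mem c hφ hc _)) (out_mem c hφ hc _)

theorem exists_embedding (hφ : ∀ x, φ x = x ^ q) (hc : ∀ t, φ (c t) = c t) (k : ℕ) (hk : 1 ≤ k)
    (h2 : (2 : K) ≠ 0) (h : HasElements P k) :
    ∃ f : Cfsg.Agent.ClassificationK.GTwoModel.T (2 * 2 ^ k) →* ↥(twistedD4 K q), Function.Injective f := by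
  obtain ⟨ε, y, x, hy, hx, hxy, hδy, hδx⟩ := h
  obtain ⟨Φ, hΦ⟩ : ∃ Φ : Matrix.SpecialLinearGroup (Fin 2) P →* ↥(twistedD4 K q), ∀ g, (Φ g).1 = hi c g :=
    ⟨(hi c).codRestrict (twistedD4 K q) (hi_mem c hφ hc), fun g => rfl⟩
  obtain ⟨Ψ, hΨ⟩ : ∃ Ψ : Matrix.SpecialLinearGroup (Fin 2) P →* ↥(twistedD4 K q), ∀ g, (Ψ g).1 = out c g :=
    ⟨(out c).codRestrict (twistedD4 K q) (out_mem c hφ hc), fun g => rfl⟩
  obtain ⟨D, hD⟩ : ∃ D : ↥(twistedD4 K q), D.1 = dd c ε := ⟨⟨_, dd_mem c hφ hc ε⟩, rfl⟩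
  refine Cfsg.Agent.ClassificationK.GTwoEmbed.exists_embedding (2 ^ k) k rfl hk Φ Ψ (fun g h => Subtype.ext ?_) (-1)
    (Subtype.ext ?_) (fun h => ?_) (by simp) D (Subtype.ext ?_) (delta ε) (fun g => Subtype.ext ?_)
    (fun g => Subtype.ext ?_) y x hy hx hxy hδy hδx
  · rw [Subgroup.coe_mul, Subgroup.coe_mul, hΦ, hΨ]; exact (hi_out_comm c g h).eq
  · rw [hΦ, hΨ]; exact hi_eq_out c
  · apply hi_neg_one c h2
    rw [← hΦ, h]; rfl
  · rw [Subgroup.coe_mul, hD]; exact dd_sq c ε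
  · rw [Subgroup.coe_mul, Subgroup.coe_mul, hΦ, hΦ, hD]; exact dd_hi c ε g
  · rw [Subgroup.coe_mul, Subgroup.coe_mul, hΨ, hΨ, hD]; exact dd_out c ε g

end Mem

/-! ### the order -/

/-- the 2-part of the order of `³D₄(q)` -/
theorem factorization_card (q k m : ℕ) (hq : Odd q) (hq1 : 1 < q) (hm : Odd m) (h : q ^ 2 - 1 = 4 * 2 ^ k * m) :
    (q ^ 12 * (q ^ 2 - 1) * (q ^ 6 - 1) * (q ^ 8 + q ^ 4 + 1)).factorization 2 = 2 * (k + 2) := by
  have h0 := Cfsg.Agent.ClassificationK.GTwoSylow.factorization_card q k m hq hq1 hm h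
  have h1 : 1 ≤ q ^ 2 - 1 := by
    have : 2 ^ 2 ≤ q ^ 2 := Nat.pow_le_pow_left hq1 2
    omega
  have h2 : 1 ≤ q ^ 6 - 1 := by
    have : 2 ^ 6 ≤ q ^ 6 := Nat.pow_le_pow_left hq1 6
    omega
  have hodd : Odd (q ^ 6 * (q ^ 8 + q ^ 4 + 1)) := by
    refine (hq.pow).mul ?_
    have h4 : Odd (q ^ 8) := hq.pow
    have h2 : Odd (q ^ 4) := hq.pow
    exact (h4.add_odd h2).add_one
  have hall : q ^ 12 * (q ^ 2 - 1) * (q ^ 6 - 1) * (q ^ 8 + q ^ 4 + 1) =
      (q ^ 6 * (q ^ 2 - 1) * (q ^ 6 - 1)) * (q ^ 6 * (q ^ 8 + q ^ 4 + 1)) := by ring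
  rw [hall, Nat.factorization_mul (by positivity) (by positivity)]
  simp only [Finsupp.add_apply]
  rw [h0, Nat.factorization_eq_zero_of_not_dvd, add_zero]
  intro hd
  exact (Nat.not_even_iff_odd.2 hodd) (even_iff_two_dvd.2 hd)

/-- **The Sylow 2-subgroups of `³D₄(q)`**, `q` odd. -/
theorem exists_equiv {K : Type*} [Field K] [Fintype K] {q : ℕ} (hq : Odd q) (hK : Fintype.card K = q ^ 3)
    (P : Sylow 2 ↥(twistedD4 K q)) :
    ∃ k m : ℕ, 1 ≤ k ∧ Odd m ∧ q ^ 2 - 1 = 4 * 2 ^ k * m ∧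
      Nonempty (Cfsg.Agent.ClassificationK.GTwoModel.T (2 * 2 ^ k) ≃* ↥(P : Subgroup ↥(twistedD4 K q))) := by
  have : Fact (Nat.Prime 2) := ⟨Nat.prime_two⟩
  have hodd : Odd (Fintype.card K) := by rw [hK]; exact hq.pow
  have h2 : (2 : K) ≠ 0 := Cfsg.Agent.GH.LowRankLie.two_ne_zero_of_odd hodd
  have hpp : IsPrimePow q := by
    have h1 : IsPrimePow (q ^ 3) := by rw [← hK]; exact Fintype.isPrimePow_card_of_field
    rwa [isPrimePow_pow_iff (by norm_num)] at h1
  obtain ⟨φ, hφ⟩ := exists_frob hpp hK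
  -- the fixed field
  let L : Subfield K := RingHom.eqLocusField φ (RingHom.id K)
  have hL : ∀ x : K, x ∈ L ↔ x ^ q = x := by
    intro x
    rw [← hφ]
    rfl
  have hcardL : Nat.card L = q := by
    rw [← Cfsg.Agent.ChevalleyStructure.FixedCard.card_fixed hpp.one_lt hK]
    exact Nat.card_congr (Equiv.subtypeEquivRight hL)
  have hc : ∀ t : L, φ (L.subtype t) = L.subtype t := fun t => t.2
  obtain ⟨k, m, hk, hm, hqk, hel⟩ := exists_elements L (by rw [hcardL]; exact hq)
  rw [hcardL] at hqk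
  refine ⟨k, m, hk, hm, hqk, ?_⟩
  obtain ⟨f, hf⟩ := exists_embedding L.subtype hφ hc k hk h2 hel
  have hcard := S1067.result (K := K) (q := q) hpp hK
  have hR : Nat.card f.range = 2 ^ (Nat.card ↥(twistedD4 K q)).factorization 2 := by
    have : NeZero (2 * 2 ^ k) := ⟨by positivity⟩
    rw [← Nat.card_congr (MonoidHom.ofInjective hf).toEquiv, Cfsg.Agent.ClassificationK.GTwoModel.T.card_T, hcard,
      factorization_card q k m hq hpp.one_lt hm hqk, two_mul (k + 2), pow_add, pow_add]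
    ring
  let Q : Sylow 2 ↥(twistedD4 K q) := Sylow.ofCard f.range hR
  have e1 : Cfsg.Agent.ClassificationK.GTwoModel.T (2 * 2 ^ k) ≃* ↥(Q : Subgroup ↥(twistedD4 K q)) :=
    MonoidHom.ofInjective hf
  exact ⟨e1.trans (Sylow.equiv Q P)⟩

/-- The Sylow 2-subgroups of `³D₄(q)` and of `G₂(q)` are isomorphic, `q` odd. -/
theorem sylow_equiv {K : Type*} [Field K] [Fintype K] {q : ℕ} (hq : Odd q) (hK : Fintype.card K = q ^ 3)
    (P : Sylow 2 ↥(twistedD4 K q)) {F : Type*} [Field F] [Fintype F] (hF : Fintype.card F = q)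
    (hG : Nat.card ↥(chevG2.group F) = Fintype.card F ^ 6 * (Fintype.card F ^ 2 - 1) * (Fintype.card F ^ 6 - 1))
    (R : Sylow 2 ↥(chevG2.group F)) :
    Nonempty (↥(P : Subgroup ↥(twistedD4 K q)) ≃* ↥(R : Subgroup ↥(chevG2.group F))) := by
  have : Fact (Nat.Prime 2) := ⟨Nat.prime_two⟩
  obtain ⟨k, m, hk, hm, hqk, ⟨e⟩⟩ := exists_equiv hq hK P
  obtain ⟨k', hk', ⟨e'⟩⟩ := Cfsg.Agent.ClassificationK.GTwoSylow.exists_equiv (F := F) (by rw [hF]; exact hq) hG R
  have hkk : k' = k := by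
    have h1 := R.card_eq_multiplicity
    have hq1 : 1 < q := by rw [← hF]; exact Fintype.one_lt_card
    rw [hG, hF, Cfsg.Agent.ClassificationK.GTwoSylow.factorization_card q k m hq hq1 hm hqk,
      ← Nat.card_congr e'.toEquiv] at h1
    have : NeZero (2 * 2 ^ k') := ⟨by positivity⟩
    rw [Cfsg.Agent.ClassificationK.GTwoModel.T.card_T] at h1
    have h2 : 4 * (2 * 2 ^ k') ^ 2 = 2 ^ (2 * (k' + 2)) := by ring
    rw [h2] at h1
    have := Nat.pow_right_injective le_rfl h1
    omega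
  subst hkk
  exact ⟨e.symm.trans e'⟩

end Cfsg.Agent.H285.D4Sylow

private theorem dce_e807b1e88ef1 : _root_.True := by
  try have : _root_.True := by simp only [_root_.Cfsg.Agent.H285.D4Sylow.hw.eq_1]
  try have : _root_.True := by simp only [_root_.Cfsg.Agent.H285.D4Sylow.dd.eq_1]
  try have : _root_.True := by simp only [_root_.Cfsg.Agent.H285.D4Sylow.H.eq_1]
  exact _root_.True.intro
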